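import Groth.Agent.Lib.ConsH13.ModEngine
import Groth.Agent.Lib.ConsH13.Approx
import Groth.Agent.S4849

/-!
# Noetherian models over finitely generated subrings, with flatness
-/

set_option autoImplicit false
set_option linter.style.haveILetI false
set_option linter.unusedSectionVars false
set_option backward.isDefEq.respectTransparency false

universe u

open CategoryTheory CategoryTheory.Limits AlgebraicGeometry TopologicalSpace Opposite

noncomputable section

namespace Groth.Agent.NoethApproxH1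

open Groth.Agent.ConsH13

variable {A : CommRingCat.{u}} {X : Scheme.{u}} (u : X ⟶ Spec A) (F : X.Modules)

/-- A model over a finitely generated subring. -/
structure AModel where
  k : (FGSub A)ᵒᵖ
  X' : Scheme.{u}
  u' : X' ⟶ (approxDiagram A).obj k
  q : X ⟶ X'
  F' : X'.Modules
  lft : LocallyOfFiniteType u'
  qc : QuasiCompact u'
  qs : QuasiSeparated u'
  sq : IsPullback q u u' ((approxCone A).π.app k)
  coh : Coh.IsCoh F'
  iso : F ≅ (Scheme.Modules.pullback q).obj F'

attribute [instance] AModel.lft AModel.qc AModel.qs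

variable {u F}

/-- The model at a later stage. -/
def AModel.stage (M : AModel u F) {j : (FGSub A)ᵒᵖ} (φ : j ⟶ M.k) : AModel u F where
  k := j
  X' := pullback M.u' ((approxDiagram A).map φ)
  u' := pullback.snd M.u' ((approxDiagram A).map φ)
  q := pullback.lift M.q (u ≫ (approxCone A).π.app j)
    (by rw [Category.assoc, (approxCone A).w φ]; exact M.sq.w)
  F' := (Scheme.Modules.pullback (pullback.fst M.u' ((approxDiagram A).map φ))).obj M.F'
  lft := MorphismProperty.pullback_snd _ _ M.lft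
  qc := MorphismProperty.pullback_snd _ _ M.qc
  qs := MorphismProperty.pullback_snd _ _ M.qs
  sq := IsPullback.of_right (by rw [pullback.lift_fst, (approxCone A).w φ]; exact M.sq)
    (pullback.lift_snd _ _ _) (IsPullback.of_hasPullback M.u' ((approxDiagram A).map φ))
  coh := M1.isCoh_pullback _ M.coh
  iso := M.iso ≪≫ (Scheme.Modules.pullbackCongr (pullback.lift_fst _ _ _).symm).app M.F' ≪≫
    ((Scheme.Modules.pullbackComp _ (pullback.fst M.u' ((approxDiagram A).map φ))).app M.F').symm

theorem exists_amodel [LocallyOfFinitePresentation u] [QuasiCompact u] [QuasiSeparated u]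
    [Coh.IsQCoh F] (hF : CohB1.IsFP F) : Nonempty (AModel u F) := by
  let c := approxCone A
  have hc : IsLimit c := isLimitApproxCone A
  haveI : CompactSpace X := QuasiCompact.compactSpace_of_compactSpace u
  haveI : QuasiSeparatedSpace X := quasiSeparatedSpace_of_quasiSeparated u
  obtain ⟨i, X₀, u₀, qX, h1, h2, h3, h4⟩ :=
    LimH13.hasModel_of_finitePresentation hc (X := X) (u : X ⟶ c.pt)
  let D := approxDiagram A
  let F₀ := Over.forget i
  let D' : Over i ⥤ Scheme.{u} := F₀ ⋙ D
  let c' : Cone D' := c.whisker F₀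
  have hc' : IsLimit c' := (Functor.Initial.isLimitWhiskerEquiv F₀ c).symm hc
  let t : D' ⟶ (Functor.const (Over i)).obj (D.obj i) :=
    { app := fun k => D.map k.hom
      naturality := fun k l a => by
        show D.map a.left ≫ D.map l.hom = D.map k.hom ≫ 𝟙 _
        rw [← D.map_comp, Over.w, Category.comp_id] }
  have hq : ∀ k, c'.π.app k ≫ t.app k = c.π.app i := fun k => c.w k.hom
  haveI : ∀ k, IsAffineHom (t.app k) := fun k => (inferInstanceAs (IsAffineHom (D.map k.hom)))
  haveI : ∀ (k l : Over i) (a : k ⟶ l), IsAffineHom ((Descend.pbDiagram D' t u₀).map a) :=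
    fun k l a => Descend.pb_isAffineHom_map D' t u₀ a
  let e := Descend.pbCone D' t u₀ c' hq h4
  have he : IsLimit e := Descend.pbIsLimit D' t u₀ c' hq h4 hc'
  haveI : ∀ k : Over i, IsLocallyNoetherian ((Descend.pbDiagram D' t u₀).obj k) := fun k => by
    haveI : IsLocallyNoetherian (D'.obj k) :=
      inferInstanceAs (IsLocallyNoetherian ((approxDiagram A).obj k.left))
    exact LocallyOfFiniteType.isLocallyNoetherian (pullback.snd u₀ (t.app k))
  obtain ⟨k, -, Fk, hFk, hFkp, ⟨ei⟩⟩ :=
    ModLimH13.exists_module_descend_noetherian he (i₀ := Over.mk (𝟙 i)) (F : e.pt.Modules) hF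
  haveI : CompactSpace ((Descend.pbDiagram D' t u₀).obj k) := inferInstance
  haveI : QuasiSeparatedSpace ((Descend.pbDiagram D' t u₀).obj k) := inferInstance
  haveI : IsAffine (D.obj k.left) := inferInstanceAs (IsAffine ((approxDiagram A).obj k.left))
  exact ⟨{
    k := k.left
    X' := _
    u' := pullback.snd u₀ (t.app k)
    q := e.π.app k
    F' := Fk
    lft := inferInstanceAs (LocallyOfFiniteType (pullback.snd u₀ (t.app k)))
    qc := (HasAffineProperty.iff_of_isAffine (P := @QuasiCompact)).2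
      ‹CompactSpace ((Descend.pbDiagram D' t u₀).obj k)›
    qs := (HasAffineProperty.iff_of_isAffine (P := @QuasiSeparated)).2
      ‹QuasiSeparatedSpace ((Descend.pbDiagram D' t u₀).obj k)›
    sq := Descend.pbCone_isPullback D' t u₀ c' hq h4 k
    coh := ⟨hFk, M1.isFP_isFT hFkp⟩
    iso := ei.symm }⟩

theorem exists_affine [IsAffine X] (M : AModel u F) : ∃ N : AModel u F, IsAffine N.X' := by
  let D := approxDiagram A
  let c := approxCone A
  let F₀ := Over.forget M.k
  let D' : Over M.k ⥤ Scheme.{u} := F₀ ⋙ D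
  let c' : Cone D' := c.whisker F₀
  have hc' : IsLimit c' := (Functor.Initial.isLimitWhiskerEquiv F₀ c).symm (isLimitApproxCone A)
  let t := Descend.overT D M.k
  have hq : ∀ k, c'.π.app k ≫ t.app k = c.π.app M.k := fun k => c.w k.hom
  haveI : ∀ k, IsAffineHom (t.app k) := fun k => (inferInstanceAs (IsAffineHom (D.map k.hom)))
  haveI : ∀ {k l : Over M.k} (a : k ⟶ l), IsAffineHom ((Descend.pbDiagram D' t M.u').map a) :=
    fun a => Descend.pb_isAffineHom_map D' t M.u' a
  haveI : CompactSpace M.X' := by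
    haveI : CompactSpace (D.obj M.k) := inferInstanceAs (CompactSpace ((approxDiagram A).obj M.k))
    exact QuasiCompact.compactSpace_of_compactSpace M.u'
  haveI : QuasiSeparatedSpace M.X' := by
    haveI : QuasiSeparatedSpace (D.obj M.k) :=
      inferInstanceAs (QuasiSeparatedSpace ((approxDiagram A).obj M.k))
    exact quasiSeparatedSpace_of_quasiSeparated M.u'
  haveI : ∀ k, CompactSpace ((Descend.pbDiagram D' t M.u').obj k) := fun k =>
    Descend.pb_compactSpace D' t M.u' k
  haveI : ∀ k, QuasiSeparatedSpace ((Descend.pbDiagram D' t M.u').obj k) := fun k => by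
    haveI : IsAffineHom (t.app k) := inferInstance
    exact quasiSeparatedSpace_of_quasiSeparated (pullback.fst M.u' (t.app k))
  let e := Descend.pbCone D' t M.u' c' hq M.sq
  have he : IsLimit e := Descend.pbIsLimit D' t M.u' c' hq M.sq hc'
  haveI : IsAffine e.pt := ‹IsAffine X›
  obtain ⟨k, hk⟩ := Scheme.exists_isAffine_of_isLimit (Descend.pbDiagram D' t M.u') e he
  exact ⟨M.stage k.hom, hk⟩

theorem flatOver_stage {M : AModel u F} (h : FlatMod.IsFlatOver M.u' M.F') {j : (FGSub A)ᵒᵖ}
    (φ : j ⟶ M.k) : FlatMod.IsFlatOver (M.stage φ).u' (M.stage φ).F' := fun x => by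
  haveI := M.coh.1
  exact FlatH4.isFlatOverAt_baseChange (IsPullback.of_hasPullback M.u' _) _ x (h _)

theorem exists_flat (M : AModel u F) (hfl : FlatMod.IsFlatOver u F) :
    ∃ (j : (FGSub A)ᵒᵖ) (φ : j ⟶ M.k), FlatMod.IsFlatOver (M.stage φ).u' (M.stage φ).F' := by
  let D := approxDiagram A
  let c := approxCone A
  let u₀ : M.X' ⟶ D.obj M.k := M.u'
  haveI : IsNoetherianRing ((subFunctor A).obj M.k.unop) := inferInstance
  haveI : IsLocallyNoetherian (D.obj M.k) := inferInstanceAs (IsLocallyNoetherian ((approxDiagram A).obj M.k))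
  haveI : LocallyOfFinitePresentation u₀ := inferInstance
  haveI : LocallyOfFinitePresentation (u₀ ≫ 𝟙 (D.obj M.k)) := by rw [Category.comp_id]; infer_instance
  haveI : QuasiCompact (u₀ ≫ 𝟙 (D.obj M.k)) := by rw [Category.comp_id]; exact M.qc
  haveI : QuasiSeparated (u₀ ≫ 𝟙 (D.obj M.k)) := by rw [Category.comp_id]; exact M.qs
  haveI : CompactSpace (D.obj M.k) := inferInstanceAs (CompactSpace ((approxDiagram A).obj M.k))
  haveI := M.coh.1
  haveI : IsLocallyNoetherian M.X' := LocallyOfFiniteType.isLocallyNoetherian M.u'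
  have hfl₀ : FlatMod.IsFlatOver u ((Scheme.Modules.pullback M.q).obj M.F') := fun x =>
    SchDom.isFlatOverAt_of_iso _ M.iso x (hfl x)
  haveI : IsIso (𝟙 c.pt) := IsIso.id _
  haveI : IsIso (𝟙 (D.obj M.k)) := IsIso.id _
  have hid : IsPullback (c.π.app M.k) (𝟙 c.pt) (𝟙 (D.obj M.k)) (c.π.app M.k) :=
    IsPullback.of_vert_isIso ⟨(Category.comp_id _).trans (Category.id_comp _).symm⟩
  obtain ⟨i, φ, Xi, Yi, fi, gi, pY, pX, hY, hX, hflat⟩ := (Groth.Agent.S4849.result (Y₀ := D.obj M.k)
    D c (isLimitApproxCone A) M.k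
    u₀ (𝟙 (D.obj M.k)) M.F' (M1.isFP_of_isCoh M.coh) u (𝟙 c.pt) (c.π.app M.k) M.q
    hid M.sq).1 hfl₀
  haveI : IsIso gi := MorphismProperty.of_isPullback (P := MorphismProperty.isomorphisms Scheme.{u}) hY
    (inferInstanceAs (IsIso (𝟙 (D.obj M.k))))
  refine ⟨i, φ, fun x => ?_⟩
  have hYw : pY = gi ≫ D.map φ := (Category.comp_id pY).symm.trans hY.w
  have hXi : IsPullback pX (fi ≫ gi) M.u' (D.map φ) :=
    hX.of_iso (Iso.refl _) (Iso.refl _) (asIso gi) (Iso.refl _)
      ((Category.comp_id _).trans (Category.id_comp _).symm) (Category.id_comp _).symm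
      ((Category.comp_id _).trans (Category.id_comp _).symm) ((Category.comp_id _).trans hYw)
  let gj : D.obj i ⟶ Yi := inv gi
  have H : IsPullback hXi.isoPullback.inv (pullback.snd M.u' (D.map φ)) fi gj := IsPullback.of_horiz_isIso ⟨by
    show hXi.isoPullback.inv ≫ fi = pullback.snd M.u' (D.map φ) ≫ inv gi
    rw [← cancel_mono gi, Category.assoc, Category.assoc, IsIso.inv_hom_id, Category.comp_id]
    exact hXi.isoPullback_inv_snd⟩
  haveI : Coh.IsQCoh ((Scheme.Modules.pullback pX).obj M.F') := M1.isQCoh_pullback pX M.coh.1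
  refine SchDom.isFlatOverAt_of_iso _ ?_ x (FlatH4.isFlatOverAt_baseChange H _ x (hflat _))
  exact (Scheme.Modules.pullbackComp _ pX).app M.F' ≪≫
    (Scheme.Modules.pullbackCongr hXi.isoPullback_inv_fst).app M.F'

theorem exists_flatAt (M : AModel u F) (x : X) (hfl : FlatMod.IsFlatOverAt u F x) :
    ∃ (j : (FGSub A)ᵒᵖ) (φ : j ⟶ M.k),
      FlatMod.IsFlatOverAt (M.stage φ).u' (M.stage φ).F' ((M.stage φ).q x) := by
  let D := approxDiagram A
  let c := approxCone A
  let u₀ : M.X' ⟶ D.obj M.k := M.u'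
  haveI : IsLocallyNoetherian (D.obj M.k) := inferInstanceAs (IsLocallyNoetherian ((approxDiagram A).obj M.k))
  haveI : LocallyOfFinitePresentation u₀ := inferInstance
  haveI : LocallyOfFinitePresentation (u₀ ≫ 𝟙 (D.obj M.k)) := by rw [Category.comp_id]; infer_instance
  haveI : QuasiCompact (u₀ ≫ 𝟙 (D.obj M.k)) := by rw [Category.comp_id]; exact M.qc
  haveI : QuasiSeparated (u₀ ≫ 𝟙 (D.obj M.k)) := by rw [Category.comp_id]; exact M.qs
  haveI : CompactSpace (D.obj M.k) := inferInstanceAs (CompactSpace ((approxDiagram A).obj M.k))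
  haveI : QuasiSeparatedSpace (D.obj M.k) := inferInstanceAs (QuasiSeparatedSpace ((approxDiagram A).obj M.k))
  haveI := M.coh.1
  haveI : IsLocallyNoetherian M.X' := LocallyOfFiniteType.isLocallyNoetherian M.u'
  have hZ : IsZero (kernel (𝟙 M.F')) := isZero_kernel_of_mono _
  haveI : Coh.IsQCoh (kernel (𝟙 M.F')) := M1.isQCoh_isZero hZ
  let h₀ : kernel (𝟙 M.F') ⟶ M.F' := 0
  haveI : IsIso (𝟙 c.pt) := IsIso.id _
  haveI : IsIso (𝟙 (D.obj M.k)) := IsIso.id _
  have hid : IsPullback (c.π.app M.k) (𝟙 c.pt) (𝟙 (D.obj M.k)) (c.π.app M.k) :=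
    IsPullback.of_vert_isIso ⟨(Category.comp_id _).trans (Category.id_comp _).symm⟩
  obtain ⟨k, vY, vX, h1, h2, h3, h4, hgood⟩ :=
    SchDom.exists_stage_good D c (isLimitApproxCone A) M.k u₀ (𝟙 (D.obj M.k)) _ M.F'
      (SchDom.isFP_of_isZero hZ) (M1.isFP_of_isCoh M.coh) h₀ u (𝟙 c.pt) (c.π.app M.k) M.q hid M.sq x
      ((SchDom.good_iff_of_isZero hZ h₀ M.q u x).2 (SchDom.isFlatOverAt_of_iso _ M.iso x hfl))
  have hg := (SchDom.good_iff_of_isZero hZ h₀ _ _ _).1 hgood
  refine ⟨k.left, k.hom, ?_⟩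
  let pY := pullback.fst (𝟙 (D.obj M.k)) (D.map k.hom)
  let gi := pullback.snd (𝟙 (D.obj M.k)) (D.map k.hom)
  let pX := pullback.fst u₀ pY
  let fi := pullback.snd u₀ pY
  haveI : IsIso gi := MorphismProperty.of_isPullback (P := MorphismProperty.isomorphisms Scheme.{u})
    (IsPullback.of_hasPullback (𝟙 (D.obj M.k)) (D.map k.hom)) (inferInstanceAs (IsIso (𝟙 (D.obj M.k))))
  have hYw : pY = gi ≫ D.map k.hom := (Category.comp_id pY).symm.trans pullback.condition
  have hXi : IsPullback pX (fi ≫ gi) M.u' (D.map k.hom) :=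
    (IsPullback.of_hasPullback u₀ pY).of_iso (Iso.refl _) (Iso.refl _) (asIso gi) (Iso.refl _)
      ((Category.comp_id _).trans (Category.id_comp _).symm) (Category.id_comp _).symm
      ((Category.comp_id _).trans (Category.id_comp _).symm) ((Category.comp_id _).trans hYw)
  let gj : D.obj k.left ⟶ pullback (𝟙 (D.obj M.k)) (D.map k.hom) := inv gi
  have H : IsPullback hXi.isoPullback.inv (pullback.snd M.u' (D.map k.hom)) fi gj :=
    IsPullback.of_horiz_isIso ⟨by
      show hXi.isoPullback.inv ≫ fi = pullback.snd M.u' (D.map k.hom) ≫ inv gi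
      rw [← cancel_mono gi, Category.assoc, Category.assoc, IsIso.inv_hom_id, Category.comp_id]
      exact hXi.isoPullback_inv_snd⟩
  have hvX : (M.stage k.hom).q ≫ hXi.isoPullback.inv = vX := by
    rw [Iso.comp_inv_eq]
    refine pullback.hom_ext ?_ ?_
    · rw [Category.assoc, hXi.isoPullback_hom_fst, h3]
      exact pullback.lift_fst _ _ _
    · rw [Category.assoc, hXi.isoPullback_hom_snd, ← Category.assoc, h4, Category.assoc, h2]
      exact (pullback.lift_snd _ _ _).trans (congrArg (u ≫ ·) (Category.id_comp _).symm)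
  haveI : Coh.IsQCoh ((Scheme.Modules.pullback pX).obj M.F') := M1.isQCoh_pullback pX M.coh.1
  refine SchDom.isFlatOverAt_of_iso _ ?_ _ (FlatH4.isFlatOverAt_baseChange H ((Scheme.Modules.pullback pX).obj M.F') ((M.stage k.hom).q x) ?_)
  · exact (Scheme.Modules.pullbackComp _ pX).app M.F' ≪≫
      (Scheme.Modules.pullbackCongr hXi.isoPullback_inv_fst).app M.F'
  · have hpt : hXi.isoPullback.inv ((M.stage k.hom).q x) = vX x := by
      rw [← hvX]; rfl
    exact hpt ▸ hg

end Groth.Agent.NoethApproxH1
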